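import Mathlib

/-!
Field automorphisms of a finite field span its additive endomorphisms (characteristic `p`).
-/

set_option autoImplicit false

namespace Cfsg.Agent.Lib.FieldAut

variable {F : Type*} [Field F] [Finite F]

theorem linearIndependent_aut :
    LinearIndependent F (fun σ : F ≃+* F => ((σ : F →+* F) : F → F)) := by
  refine (linearIndependent_monoidHom F F).comp
    (fun σ : F ≃+* F => ((σ : F →+* F) : F →* F)) ?_
  intro σ τ h
  ext x
  exact DFunLike.congr_fun h x

theorem card_aut (p : ℕ) [Fact p.Prime] [CharP F p] [Algebra (ZMod p) F] :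
    Nat.card (F ≃+* F) = Module.finrank (ZMod p) F := by
  haveI : IsGalois (ZMod p) F := GaloisField.instIsGaloisOfFinite
  rw [← IsGalois.card_aut_eq_finrank (ZMod p) F]
  refine Nat.card_congr
    { toFun := fun σ => AlgEquiv.ofRingEquiv (f := σ) (fun x => ?_)
      invFun := fun σ => σ.toRingEquiv
      left_inv := fun σ => RingEquiv.ext fun _ => rfl
      right_inv := fun σ => AlgEquiv.ext fun _ => rfl }
  exact RingHom.congr_fun (Subsingleton.elim ((σ : F →+* F).comp (algebraMap (ZMod p) F))
    (algebraMap (ZMod p) F)) x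

theorem exists_coeff (p : ℕ) [Fact p.Prime] [CharP F p] [Fintype (F ≃+* F)] (f : F →+ F) :
    ∃ c : (F ≃+* F) → F, ∀ x : F, f x = ∑ σ, c σ * σ x := by
  letI : Algebra (ZMod p) F := ZMod.algebra F p
  haveI : Fintype F := Fintype.ofFinite F
  let Φ : ((F ≃+* F) → F) → (F →ₗ[ZMod p] F) := fun c =>
    AddMonoidHom.toZModLinearMap p (∑ σ, (AddMonoidHom.mulLeft (c σ)).comp (σ : F →+ F))
  have hΦ : ∀ c x, Φ c x = ∑ σ, c σ * σ x := by
    intro c x
    simp [Φ]
  have hinj : Function.Injective Φ := by
    intro c d h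
    funext σ
    have hli := Fintype.linearIndependent_iff.mp (linearIndependent_aut (F := F)) (fun τ => c τ - d τ)
      (by
        funext x
        simp only [Finset.sum_apply, Pi.smul_apply, smul_eq_mul, sub_mul, Finset.sum_sub_distrib,
          Pi.zero_apply]
        rw [sub_eq_zero]
        exact (hΦ c x).symm.trans ((LinearMap.congr_fun h x).trans (hΦ d x))) σ
    exact sub_eq_zero.mp hli
  have hcard : Nat.card (F →ₗ[ZMod p] F) ≤ Nat.card ((F ≃+* F) → F) := by
    rw [Module.natCard_eq_pow_finrank (K := ZMod p) (V := F →ₗ[ZMod p] F),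
      Module.finrank_linearMap, Nat.card_fun, card_aut p,
      Module.natCard_eq_pow_finrank (K := ZMod p) (V := F), Nat.card_zmod, ← pow_mul]
  haveI : Finite (F →ₗ[ZMod p] F) := Finite.of_injective _ DFunLike.coe_injective
  obtain ⟨c, hc⟩ := (hinj.bijective_of_nat_card_le hcard).2 (AddMonoidHom.toZModLinearMap p f)
  refine ⟨c, fun x => ?_⟩
  rw [← hΦ, hc]
  rfl

theorem exists_coeff_biadditive (p : ℕ) [Fact p.Prime] [CharP F p] [Fintype (F ≃+* F)]
    (B : F →+ F →+ F) :
    ∃ c : (F ≃+* F) × (F ≃+* F) → F, ∀ x y : F, B x y = ∑ q, c q * (q.1 x * q.2 y) := by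
  choose c hc using fun y => exists_coeff p (B.flip y)
  have hadd : ∀ σ y z, c (y + z) σ = c y σ + c z σ := by
    intro σ y z
    have hli := Fintype.linearIndependent_iff.mp (linearIndependent_aut (F := F))
      (fun τ => c (y + z) τ - c y τ - c z τ) (by
        funext x
        simp only [Finset.sum_apply, Pi.smul_apply, smul_eq_mul, sub_mul, Finset.sum_sub_distrib,
          Pi.zero_apply]
        simp only [RingHom.coe_coe, ← hc, map_add, AddMonoidHom.add_apply, AddMonoidHom.flip_apply]
        abel) σ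
    linear_combination hli
  choose d hd using fun σ => exists_coeff p (AddMonoidHom.mk' (fun y => c y σ) (hadd σ))
  refine ⟨fun q => d q.1 q.2, fun x y => ?_⟩
  rw [Fintype.sum_prod_type]
  refine (hc y x).trans (Finset.sum_congr rfl fun σ _ => ?_)
  have h : c y σ = ∑ τ, d σ τ * τ y := hd σ y
  rw [h, Finset.sum_mul]
  exact Finset.sum_congr rfl fun τ _ => by ring

end Cfsg.Agent.Lib.FieldAut
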